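import Mathlib
import Cfsg.Agent.Spor.R3.MclD

/-! Generated by tools/h61/gen.py: checks -/

set_option autoImplicit false
set_option maxRecDepth 100000
set_option linter.unusedVariables false
set_option exponentiation.threshold 100000
set_option Elab.async false

namespace Cfsg.Agent.Spor.R3.Mcl

open Cfsg.Agent.Spor Cfsg.Agent.Spor.R3

theorem c_ol0 : allRange 0 275 (olOK OutC.mcl_T 7 E0 rt0) = true := by decide +kernel

theorem c_cl0 : allRange 0 275 (olCl OutC.mcl_T 7 E0) = true := by decide +kernel

theorem c_n1 : Nat.beq (count2 275 fun i => Nat.beq (labE E0 i) 1) 112 = true := by decide +kernel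

theorem c_n2 : Nat.beq (count2 275 fun i => Nat.beq (labE E0 i) 2) 162 = true := by decide +kernel

theorem c_ol1 : allRange 0 275 (olOK OutC.mcl_T 6 E1 rt1) = true := by decide +kernel

theorem c_cl1 : allRange 0 275 (olCl OutC.mcl_T 6 E1) = true := by decide +kernel

theorem c_sz1 : szOK 275 6 E1 sz1 = true := by decide +kernel

theorem c_ar : arOK 40 6 104 sz1 rt1 inX = true := by decide +kernel

theorem c_clq : clOK OutC.mcl_T E1 rt1 275 7 104 wq L0 = true := by decide +kernel

theorem c_sub1 : subOK 6 sz1 (fun v => inX (rt1 v)) (cond true 30 (112 - 56)) 2 = true := by decide +kernel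

theorem c_T2 : allLt 2 (fun j => band (lettersLt 7 (W2.get j)) (allRange 0 275 fun i => Nat.beq (traceP OutC.mcl_T (W2.get j) i) (T2 j i))) = true := by decide +kernel

theorem c_f2 : allLt 2 (fun j => band (lettersLt 7 (W2.get j)) (Nat.beq (traceP OutC.mcl_T (W2.get j) 1) 1)) = true := by decide +kernel

theorem c_ol2 : allRange 0 275 (olOK T2 2 E2 rt2) = true := by decide +kernel

theorem c_sz2 : szOK 275 6 E2 sz2 = true := by decide +kernel

theorem c_sub2 : subOK 6 sz2 (fun v => inY (rt2 v)) (cond (!true) 30 (112 - 56)) 16 = true := by decide +kernel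

theorem c_inj : injOK OutC.mcl_T 13 275 9 1 6 D inX inY rt2 uy U2 = true := by decide +kernel

theorem c_pg : band (lettersLt 275 [104, 68, 62, 80]) (allLt 1 fun x =>
    band (band (lettersLt 7 (powW 7 (W3.get x))) (fixesL OutC.mcl_T (powW 7 (W3.get x)) [104, 68, 62, 80])) (allLt 1 fun y =>
      band (lettersLt 7 (appL (W3.get x) (W3.get y))) (band (lettersLt 7 (appL (W3.get y) (W3.get x)))
        (agreeL OutC.mcl_T (appL (W3.get x) (W3.get y)) (appL (W3.get y) (W3.get x)) [104, 68, 62, 80])))) = true := by decide +kernel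

theorem c_T3 : allLt 1 (fun j => band (lettersLt 7 (W3.get j)) (allRange 0 275 fun i => Nat.beq (traceP OutC.mcl_T (W3.get j) i) (T3 j i))) = true := by decide +kernel

theorem c_ol3 : allRange 0 275 (olOK T3 1 E3 rt3) = true := by decide +kernel

theorem c_v3 : allRange 0 275 (fun i => bor (!inX i) (blt (labE E3 i) 16)) = true := by decide +kernel

theorem c_quad : quadOK OutC.mcl_T E1 2 275 7 104 inX true 275 112 30 56 2 L = true := by decide +kernel

theorem c_con : conOK OutC.mcl_T E3 7 L C = true := by decide +kernel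

theorem c_inc : incOK C 16 I 0 = true := by decide +kernel

theorem c_dfs : dfsOK C 16 2 I (memL sols) = true := by decide +kernel

theorem c_res : band (enumOK 275 112 inX P P') (resOK 275 112 7 OutC.mcl_T S P) = true := by decide +kernel

theorem c_tw0 : band (band (enumOK 275 112 inX Q0 Q0') (allLt 7 fun x => lettersLt 7 (V0.get x)))
    (resOK 275 112 7 (fun x => traceP OutC.mcl_T (V0.get x)) S Q0) = true := by decide +kernel

theorem c_good0 : goodOK OutC.mcl_T 13 275 9 D inX inY (fun i => bit (nat_lit 26198) (labE E3 (Q0 (P' i)))) 1 uy = true := by decide +kernel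

theorem c_tw1 : band (band (enumOK 275 112 inX Q1 Q1') (allLt 7 fun x => lettersLt 7 (V1.get x)))
    (resOK 275 112 7 (fun x => traceP OutC.mcl_T (V1.get x)) S Q1) = true := by decide +kernel

theorem c_good1 : goodOK OutC.mcl_T 13 275 9 D inX inY (fun i => bit (nat_lit 39254) (labE E3 (Q1 (P' i)))) 1 uy = true := by decide +kernel

theorem c_tw2 : band (band (enumOK 275 112 inX Q2 Q2') (allLt 7 fun x => lettersLt 7 (V2.get x)))
    (resOK 275 112 7 (fun x => traceP OutC.mcl_T (V2.get x)) S Q2) = true := by decide +kernel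

theorem c_good2 : goodOK OutC.mcl_T 13 275 9 D inX inY (fun i => bit (nat_lit 26281) (labE E3 (Q2 (P' i)))) 1 uy = true := by decide +kernel

theorem c_tw3 : band (band (enumOK 275 112 inX Q3 Q3') (allLt 7 fun x => lettersLt 7 (V3.get x)))
    (resOK 275 112 7 (fun x => traceP OutC.mcl_T (V3.get x)) S Q3) = true := by decide +kernel

theorem c_good3 : goodOK OutC.mcl_T 13 275 9 D inX inY (fun i => bit (nat_lit 39337) (labE E3 (Q3 (P' i)))) 1 uy = true := by decide +kernel

theorem c_ins : allL Ls (insOK OutC.mcl_T 13 275 [9] D) = true := by decide +kernel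

theorem c_aut : autOK 275 ord pos Ls 0 [] = true := by decide +kernel

theorem c_prod : Nat.ble (prodK Ls) (2 * 898128000) = true := by decide +kernel


end Cfsg.Agent.Spor.R3.Mcl
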