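import Mathlib
import Cfsg.Agent.Spor.R3.RuD

/-! Generated by tools/h61/gen.py: checks -/

set_option autoImplicit false
set_option maxRecDepth 100000
set_option linter.unusedVariables false
set_option exponentiation.threshold 100000
set_option Elab.async false

namespace Cfsg.Agent.Spor.R3.Ru

open Cfsg.Agent.Spor Cfsg.Agent.Spor.R3

theorem c_ol0 : allRange 0 4060 (olOK MRu.ch_T 6 E0 rt0) = true := by decide +kernel

theorem c_cl0 : allRange 0 4060 (olCl MRu.ch_T 6 E0) = true := by decide +kernel

theorem c_n1 : Nat.beq (count2 4060 fun i => Nat.beq (labE E0 i) 1) 1755 = true := by decide +kernel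

theorem c_n2 : Nat.beq (count2 4060 fun i => Nat.beq (labE E0 i) 2) 2304 = true := by decide +kernel

theorem c_ol1 : allRange 0 4060 (olOK MRu.ch_T 5 E1 rt1) = true := by decide +kernel

theorem c_cl1 : allRange 0 4060 (olCl MRu.ch_T 5 E1) = true := by decide +kernel

theorem c_sz1 : szOK 4060 8 E1 sz1 = true := by decide +kernel

theorem c_ar : arOK 5 8 28 sz1 rt1 inX = true := by decide +kernel

theorem c_clq : clOK MRu.ch_T E1 rt1 4060 6 28 wq L0 = true := by decide +kernel

theorem c_sub1 : subOK 8 sz1 (fun v => inX (rt1 v)) (cond true 730 (1755 - 780)) 14 = true := by decide +kernel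

theorem c_T2 : allLt 2 (fun j => band (lettersLt 6 (W2.get j)) (allRange 0 4060 fun i => Nat.beq (traceP MRu.ch_T (W2.get j) i) (T2 j i))) = true := by decide +kernel

theorem c_f2 : allLt 2 (fun j => band (lettersLt 6 (W2.get j)) (Nat.beq (traceP MRu.ch_T (W2.get j) 1) 1)) = true := by decide +kernel

theorem c_ol2 : allRange 0 4060 (olOK T2 2 E2 rt2) = true := by decide +kernel

theorem c_sz2 : szOK 4060 9 E2 sz2 = true := by decide +kernel

theorem c_sub2 : subOK 9 sz2 (fun v => inY (rt2 v)) (cond (!true) 730 (1755 - 780)) 4 = true := by decide +kernel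

theorem c_inj : injOK MRu.ch_T 9 4060 0 1 9 D inX inY rt2 uy U2 = true := by decide +kernel

theorem c_pg : band (lettersLt 4060 [28, 50, 33]) (allLt 2 fun x =>
    band (band (lettersLt 6 (powW 5 (W3.get x))) (fixesL MRu.ch_T (powW 5 (W3.get x)) [28, 50, 33])) (allLt 2 fun y =>
      band (lettersLt 6 (appL (W3.get x) (W3.get y))) (band (lettersLt 6 (appL (W3.get y) (W3.get x)))
        (agreeL MRu.ch_T (appL (W3.get x) (W3.get y)) (appL (W3.get y) (W3.get x)) [28, 50, 33])))) = true := by decide +kernel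

theorem c_T3 : allLt 2 (fun j => band (lettersLt 6 (W3.get j)) (allRange 0 4060 fun i => Nat.beq (traceP MRu.ch_T (W3.get j) i) (T3 j i))) = true := by decide +kernel

theorem c_ol3 : allRange 0 4060 (olOK T3 2 E3 rt3) = true := by decide +kernel

theorem c_v3 : allRange 0 4060 (fun i => bor (!inX i) (blt (labE E3 i) 75)) = true := by decide +kernel

theorem c_con : conOK MRu.ch_T E3 6 L C = true := by decide +kernel

theorem c_pr : prOK MRu.ch_T 4060 5 inX PR = true := by decide +kernel

theorem c_s0 : goodOK MRu.ch_T 9 4060 0 D inX inY (fun i => bit (nat_lit 0x11caec872fb100077bd) (labE E3 i)) 3289 ug0 = true := by decide +kernel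

theorem c_s1 : badOK MRu.ch_T E3 rt3 4060 6 28 75 13 inX PR U3 (nat_lit 0x149ba5e60f6900077bd) (nat_lit 30653) = true := by decide +kernel

theorem c_s2 : badOK MRu.ch_T E3 rt3 4060 6 28 75 13 inX PR U3 (nat_lit 0x29c2da93b69500077bd) (nat_lit 30653) = true := by decide +kernel

theorem c_s3 : goodOK MRu.ch_T 9 4060 0 D inX inY (fun i => bit (nat_lit 0x2c9393f2964d00077bd) (labE E3 i)) 2742 ug3 = true := by decide +kernel

theorem c_s4 : badOK MRu.ch_T E3 rt3 4060 6 28 75 13 inX PR U3 (nat_lit 0x536c6c0d69b280077bd) (nat_lit 30653) = true := by decide +kernel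

theorem c_s5 : goodOK MRu.ch_T 9 4060 0 D inX inY (fun i => bit (nat_lit 0x563d256c496a80077bd) (labE E3 i)) 1900 ug5 = true := by decide +kernel

theorem c_s6 : goodOK MRu.ch_T 9 4060 0 D inX inY (fun i => bit (nat_lit 0x6b645a19f09680077bd) (labE E3 i)) 1895 ug6 = true := by decide +kernel

theorem c_s7 : badOK MRu.ch_T E3 rt3 4060 6 28 75 13 inX PR U3 (nat_lit 0x6e351378d04e80077bd) (nat_lit 30653) = true := by decide +kernel


end Cfsg.Agent.Spor.R3.Ru
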